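import Cfsg.Agent.Lib.Grp.EqualOrderP.Shape
import Cfsg.Agent.Lib.Invol.ZStar
import Cfsg.Agent.Lib.Invol.SPEBasics
import Cfsg.Agent.Lib.Invol.Sylow

/-!
# Groups in which p-subgroups of equal order are conjugate

An extraspecial Sylow subgroup of exponent `p` would give transvections in both directions on a
normal subgroup of order `p ^ 2`, all lying in a normal subgroup of odd order.
-/

open scoped Pointwise

set_option autoImplicit false

namespace Cfsg.Agent.Grp.EqualOrderP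

universe u

variable {G : Type u} [Group G] [Finite G] {p : ℕ} [hp : Fact p.Prime]

omit [Finite G] in
/-- Conjugacy of subgroups of equal order gives isomorphisms inside a Sylow subgroup. -/
theorem iso_of_conj
    (hD : ∀ H K : Subgroup G, IsPGroup p H → IsPGroup p K → Nat.card H = Nat.card K →
      ∃ g : G, K = H.map (MulAut.conj g).toMonoidHom) {P : Subgroup G} (hP : IsPGroup p P)
    (H K : Subgroup P) (h : Nat.card H = Nat.card K) : Nonempty (H ≃* K) := by
  have h1 : Nat.card (H.map P.subtype) = Nat.card (K.map P.subtype) := by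
    rw [Subgroup.card_map_of_injective P.subtype_injective,
      Subgroup.card_map_of_injective P.subtype_injective, h]
  obtain ⟨g, hg⟩ := hD _ _ ((hP.to_subgroup H).map _) ((hP.to_subgroup K).map _) h1
  exact ⟨((H.equivMapOfInjective _ P.subtype_injective).trans
    (((H.map P.subtype).equivMapOfInjective _ (MulAut.conj g).injective).trans
      (MulEquiv.subgroupCongr hg.symm))).trans (K.equivMapOfInjective _ P.subtype_injective).symm⟩

/-- A normal subgroup of odd order catches an element of order `p` when a 2-element of order at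
least four inverts an element of order `p`. -/
theorem exists_odd_normal_mem
    (hD2 : ∀ H K : Subgroup G, IsPGroup 2 H → IsPGroup 2 K → Nat.card H = Nat.card K →
      ∃ g : G, K = H.map (MulAut.conj g).toMonoidHom)
    (hD : ∀ H K : Subgroup G, IsPGroup p H → IsPGroup p K → Nat.card H = Nat.card K →
      ∃ g : G, K = H.map (MulAut.conj g).toMonoidHom)
    (hp2 : p ≠ 2) {w c x : G} (hw : ∃ k : ℕ, orderOf w = 2 ^ k) (hcp : c ^ p = 1) (hc1 : c ≠ 1)
    (hxp : x ^ p = 1) (hx1 : x ≠ 1) (hinv : w ^ 2 * c * (w ^ 2)⁻¹ = c⁻¹) :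
    ∃ N : Subgroup G, N.Normal ∧ Odd (Nat.card N) ∧ x ∈ N := by
  classical
  haveI : Fact (Nat.Prime 2) := ⟨Nat.prime_two⟩
  have hc2 : c⁻¹ ≠ c := fun h => by
    have h2 : c ^ 2 = 1 := by rw [pow_two]; nth_rw 1 [← h]; exact inv_mul_cancel c
    have hd := orderOf_dvd_of_pow_eq_one h2
    rw [orderOf_eq_prime hcp hc1] at hd
    exact hp2 ((Nat.prime_dvd_prime_iff_eq hp.out Nat.prime_two).1 hd)
  have hw2 : w ^ 2 ≠ 1 := fun h => by
    rw [h, one_mul, inv_one, mul_one] at hinv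
    exact hc2 hinv.symm
  obtain ⟨k, hk⟩ := hw
  obtain ⟨S, hwS⟩ := (IsPGroup.of_card (n := k) (by rw [Nat.card_zpowers, hk]) :
    IsPGroup 2 (Subgroup.zpowers w)).exists_le_sylow
  have hwS' : w ∈ (S : Subgroup G) := hwS (Subgroup.mem_zpowers w)
  have heven : 2 ∣ Nat.card G := by
    have h1 : 2 ∣ orderOf w := by
      rw [hk]
      refine dvd_pow_self 2 fun h => hw2 ?_
      have : w = 1 := orderOf_eq_one_iff.1 (by rw [hk, h, pow_zero])
      rw [this, one_pow]
    exact h1.trans (orderOf_dvd_natCard w)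
  have hminfac : (Nat.card G).minFac = 2 := (Nat.minFac_eq_two_iff _).2 heven
  rcases shape S.isPGroup' (iso_of_conj hD2 S.isPGroup') with h | ⟨-, h⟩ | ⟨-, hQ⟩ | ⟨h, -⟩
  · -- a cyclic Sylow subgroup has a normal complement
    set N := (MonoidHom.transferSylow S (IsCyclic.normalizer_le_centralizer hminfac h)).ker with hN
    have hcompl : N.IsComplement' (S : Subgroup G) := IsCyclic.isComplement' hminfac h
    obtain ⟨n, hn⟩ := S.isPGroup'.exists_card_eq
    have hidx : N.index = 2 ^ n := by rw [hcompl.symm.index_eq_card, hn]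
    refine ⟨N, inferInstance, ?_, ?_⟩
    · rw [Nat.odd_iff, ← Nat.two_dvd_ne_zero]
      exact MonoidHom.not_dvd_card_ker_transferSylow S (IsCyclic.normalizer_le_centralizer hminfac h)
    · rw [← QuotientGroup.eq_one_iff, ← orderOf_eq_one_iff]
      refine Nat.eq_one_of_dvd_coprimes
        (((Nat.coprime_primes hp.out Nat.prime_two).2 hp2).pow_right n)
        (orderOf_dvd_of_pow_eq_one (by rw [← QuotientGroup.mk_pow, hxp, QuotientGroup.mk_one]))
        ((orderOf_dvd_natCard _).trans (dvd_of_eq hidx))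
  · exact absurd (congrArg Subtype.val (h ⟨w, hwS'⟩)) hw2
  · obtain ⟨e⟩ := hQ
    have h4 : (w ^ 2) ^ 2 = 1 := by
      have h1 : (e ⟨w, hwS'⟩) ^ 4 = 1 := by
        have := Monoid.pow_exponent_eq_one (e ⟨w, hwS'⟩)
        rw [QuaternionGroup.exponent] at this
        simpa using this
      rw [← map_pow, ← map_one e] at h1
      rw [← pow_mul]
      exact congrArg Subtype.val (e.injective h1)
    have htS : w ^ 2 ∈ (S : Subgroup G) := pow_mem hwS' 2
    have ht : orderOf (w ^ 2) = 2 := orderOf_eq_prime h4 hw2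
    haveI : Nontrivial (S : Subgroup G) :=
      ⟨⟨⟨_, htS⟩, 1, fun h => hw2 (congrArg Subtype.val h)⟩⟩
    obtain ⟨z, hz, hzall⟩ := Invol.exists_generator_of_cyclic_or_quaternion S.isPGroup'
      inferInstance (Or.inr ⟨2, ⟨e⟩⟩)
    have huniq : ∀ a ∈ (S : Subgroup G), orderOf a = 2 → a = (z : G) := by
      intro a ha hord
      have h1 := hzall ⟨a, ha⟩ (Subtype.ext (by
        have h2 : a ^ orderOf a = 1 := pow_orderOf_eq_one a
        rw [hord] at h2
        exact h2))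
      obtain ⟨i, hi⟩ := Subgroup.mem_zpowers_iff.1 h1
      rw [← zpow_mod_orderOf, hz] at hi
      rcases Int.emod_two_eq_zero_or_one i with h | h <;> rw [Nat.cast_ofNat, h] at hi
      · rw [zpow_zero] at hi
        rw [show a = 1 from (congrArg Subtype.val hi).symm, orderOf_one] at hord
        omega
      · rw [zpow_one] at hi; exact (congrArg Subtype.val hi).symm
    have hiso : Cfsg.IsIsolatedInvolution (w ^ 2) := ZStar.isIsolated_of_sylow htS ht fun g hg => by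
      rw [huniq _ hg (by rw [Invol.orderOf_conj_eq, ht]), huniq _ htS ht]
    obtain ⟨N, hNn, hNodd, hN⟩ := ZStar.exists_odd_normal hiso
    refine ⟨N, hNn, hNodd, ?_⟩
    have h1 : c⁻¹ * c⁻¹ ∈ N := by
      have := hN c
      rwa [hinv] at this
    have hcN : c ∈ N := by
      obtain ⟨j, hj⟩ := hp.out.odd_of_ne_two hp2
      have h2 : (c⁻¹ * c⁻¹) ^ j = c := by
        rw [← pow_two, ← pow_mul, inv_pow]
        exact inv_eq_of_mul_eq_one_right (by rw [← pow_succ, ← hj, hcp])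
      exact h2 ▸ pow_mem h1 j
    have hpz : ∀ a : G, a ^ p = 1 → a ≠ 1 → Nat.card (Subgroup.zpowers a) = p := fun a ha ha1 =>
      card_zpowers_eq ha ha1
    obtain ⟨g, hg⟩ := hD (Subgroup.zpowers c) (Subgroup.zpowers x)
      (IsPGroup.of_card (n := 1) (by rw [hpz c hcp hc1, pow_one]))
      (IsPGroup.of_card (n := 1) (by rw [hpz x hxp hx1, pow_one]))
      (by rw [hpz c hcp hc1, hpz x hxp hx1])
    obtain ⟨a, ha, hax⟩ := hg.le (Subgroup.mem_zpowers x)
    rw [← hax]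
    exact hNn.conj_mem a (Subgroup.zpowers_le.2 hcN ha) g
  · exact absurd rfl h

/-- No Sylow subgroup is extraspecial of order `p ^ 3` and exponent `p`. -/
theorem no_extraspecial
    (hD2 : ∀ H K : Subgroup G, IsPGroup 2 H → IsPGroup 2 K → Nat.card H = Nat.card K →
      ∃ g : G, K = H.map (MulAut.conj g).toMonoidHom)
    (hD : ∀ H K : Subgroup G, IsPGroup p H → IsPGroup p K → Nat.card H = Nat.card K →
      ∃ g : G, K = H.map (MulAut.conj g).toMonoidHom)
    (P : Sylow p G) (hp2 : p ≠ 2) (hexp : ∀ a : (P : Subgroup G), a ^ p = 1)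
    (hcard : Nat.card (P : Subgroup G) = p ^ 3)
    (hZcard : Nat.card (Subgroup.center (P : Subgroup G)) = p)
    {x y c : (P : Subgroup G)} (hxy : x * y * x⁻¹ = c * y) (hc1 : c ≠ 1)
    (hcZ : c ∈ Subgroup.center (P : Subgroup G)) (hyZ : y ∉ Subgroup.center (P : Subgroup G))
    (hy2 : ∀ g : (P : Subgroup G), g * y * g⁻¹ * y⁻¹ ∈ Subgroup.center (P : Subgroup G)) :
    False := by
  classical
  haveI : Fact (Nat.Prime 2) := ⟨Nat.prime_two⟩
  set c' : G := (c : G) with hc'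
  set y' : G := (y : G) with hy'
  set x' : G := (x : G) with hx'
  have hxy' : x' * y' * x'⁻¹ = c' * y' := congrArg Subtype.val hxy
  have hcp : c' ^ p = 1 := congrArg Subtype.val (hexp c)
  have hyp : y' ^ p = 1 := congrArg Subtype.val (hexp y)
  have hxp : x' ^ p = 1 := congrArg Subtype.val (hexp x)
  have hc1' : c' ≠ 1 := fun h => hc1 (Subtype.ext h)
  have hy1 : y' ≠ 1 := fun h => hyZ (by rw [show y = 1 from Subtype.ext h]; exact one_mem _)
  have hx1 : x' ≠ 1 := fun h => hc1' (by simpa [h] using hxy'.symm)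
  have hcP : ∀ g ∈ (P : Subgroup G), g * c' = c' * g := fun g hg =>
    congrArg Subtype.val (Subgroup.mem_center_iff.1 hcZ ⟨g, hg⟩)
  have hcy : Commute c' y' := (hcP _ y.2).symm
  have hcx : Commute c' x' := (hcP _ x.2).symm
  have hcenter : ∀ z ∈ Subgroup.center (P : Subgroup G), (z : G) ∈ Subgroup.zpowers c' := by
    have heq : Subgroup.zpowers c = Subgroup.center (P : Subgroup G) :=
      Subgroup.eq_of_le_of_card_ge (Subgroup.zpowers_le.2 hcZ)
        (by rw [hZcard, card_zpowers_eq (hexp c) hc1])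
    intro z hz
    obtain ⟨i, hi⟩ := Subgroup.mem_zpowers_iff.1 (heq.ge hz)
    exact Subgroup.mem_zpowers_iff.2 ⟨i, by rw [← hi]; rfl⟩
  have hyc : y' ∉ Subgroup.zpowers c' := fun h => by
    obtain ⟨i, hi⟩ := Subgroup.mem_zpowers_iff.1 h
    exact hyZ (by rw [show y = c ^ i from Subtype.ext hi.symm]; exact zpow_mem hcZ i)
  have hcy' : c' ∉ Subgroup.zpowers y' := fun h => hyc (by
    have h1 : Subgroup.zpowers c' = Subgroup.zpowers y' := Subgroup.eq_of_le_of_card_ge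
      (Subgroup.zpowers_le.2 h) (by rw [card_zpowers_eq hcp hc1', card_zpowers_eq hyp hy1])
    exact h1 ▸ Subgroup.mem_zpowers y')
  -- the normal subgroup of order `p ^ 2`
  set E := Subgroup.zpowers c' ⊔ Subgroup.zpowers y' with hE
  have hcE : c' ∈ E := Subgroup.mem_sup_left (Subgroup.mem_zpowers c')
  have hyE : y' ∈ E := Subgroup.mem_sup_right (Subgroup.mem_zpowers y')
  have hEP : E ≤ (P : Subgroup G) :=
    sup_le (Subgroup.zpowers_le.2 c.2) (Subgroup.zpowers_le.2 y.2)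
  have hnorm : Subgroup.zpowers y' ≤ Subgroup.normalizer (Subgroup.zpowers c' : Set G) :=
    Subgroup.zpowers_le.2 (BS.mem_normalizer_of_conj_le fun h hh => by
      obtain ⟨i, rfl⟩ := Subgroup.mem_zpowers_iff.1 hh
      rw [(hcy.symm.zpow_right i).eq, mul_inv_cancel_right]
      exact zpow_mem (Subgroup.mem_zpowers c') i)
  have hEform : ∀ e ∈ E, ∃ i j : ℤ, e = c' ^ i * y' ^ j := by
    intro e he
    have he' : e ∈ (Subgroup.zpowers c' : Set G) * (Subgroup.zpowers y' : Set G) := by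
      rw [← Subgroup.coe_mul_of_right_le_normalizer_left _ _ hnorm]; exact he
    obtain ⟨a, ha, b, hb, rfl⟩ := Set.mem_mul.1 he'
    obtain ⟨i, rfl⟩ := Subgroup.mem_zpowers_iff.1 ha
    obtain ⟨j, rfl⟩ := Subgroup.mem_zpowers_iff.1 hb
    exact ⟨i, j, rfl⟩
  have hEcard : Nat.card E = p ^ 2 := by
    rw [hE, card_sup_zpowers hyp hyc (fun h hh => by
      obtain ⟨i, rfl⟩ := Subgroup.mem_zpowers_iff.1 hh
      rw [(hcy.symm.zpow_right i).eq, mul_inv_cancel_right]
      exact zpow_mem (Subgroup.mem_zpowers c') i), card_zpowers_eq hcp hc1', pow_two]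
  have hPE : (P : Subgroup G) ≤ Subgroup.normalizer (E : Set G) := fun g hg =>
    BS.mem_normalizer_of_conj_le fun e he => by
      obtain ⟨i, j, rfl⟩ := hEform e he
      have h1 : g * c' * g⁻¹ = c' := by rw [hcP g hg, mul_inv_cancel_right]
      have h2 : g * y' * g⁻¹ ∈ E := by
        have h3 : g * y' * g⁻¹ * y'⁻¹ ∈ E :=
          Subgroup.mem_sup_left (hcenter _ (hy2 ⟨g, hg⟩))
        simpa using mul_mem h3 hyE
      rw [show g * (c' ^ i * y' ^ j) * g⁻¹ = (g * c' * g⁻¹) ^ i * (g * y' * g⁻¹) ^ j by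
        rw [conj_zpow, conj_zpow]; group, h1]
      exact mul_mem (zpow_mem hcE i) (zpow_mem h2 j)
  have hEy : ∀ e ∈ E, e * y' = y' * e := by
    intro e he
    obtain ⟨i, j, rfl⟩ := hEform e he
    exact ((hcy.zpow_left i).mul_left (Commute.zpow_left (Commute.refl y') j)).eq
  -- an element of the normalizer moving `y` into the centre
  obtain ⟨g, hg⟩ := hD (Subgroup.zpowers y') (Subgroup.zpowers c')
    (P.isPGroup'.to_le (Subgroup.zpowers_le.2 y.2)) (P.isPGroup'.to_le (Subgroup.zpowers_le.2 c.2))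
    (by rw [card_zpowers_eq hyp hy1, card_zpowers_eq hcp hc1'])
  have hgy : g * y' * g⁻¹ ∈ Subgroup.zpowers c' := by
    rw [hg]; exact ⟨y', Subgroup.mem_zpowers y', rfl⟩
  set C := Subgroup.centralizer ({c'} : Set G) with hC
  have hPC : (P : Subgroup G) ≤ C := fun a ha =>
    Subgroup.mem_centralizer_singleton_iff.2 (hcP a ha)
  set E₁ := E.map (MulAut.conj g).toMonoidHom with hE₁
  have hE₁C : E₁ ≤ C := by
    rintro _ ⟨e, he, rfl⟩
    have h1 : Commute (g * e * g⁻¹) (g * y' * g⁻¹) := by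
      have h2 : Commute e y' := hEy e he
      simpa [MulAut.conj_apply] using h2.map (MulAut.conj g).toMonoidHom
    obtain ⟨i, hi⟩ := Subgroup.mem_zpowers_iff.1
      (show c' ∈ Subgroup.zpowers (g * y' * g⁻¹) by
        have h3 : Subgroup.zpowers (g * y' * g⁻¹) = Subgroup.zpowers c' :=
          Subgroup.eq_of_le_of_card_ge (Subgroup.zpowers_le.2 hgy) (by
            rw [card_zpowers_eq hcp hc1', card_zpowers_eq (by rw [conj_pow, hyp, mul_one, mul_inv_cancel])
              (fun h => hy1 (by simpa using h))])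
        rw [h3]; exact Subgroup.mem_zpowers c')
    refine Subgroup.mem_centralizer_singleton_iff.2 ?_
    rw [← hi]
    exact (h1.zpow_right i).eq
  have hE₁p : IsPGroup p E₁ := (P.isPGroup'.to_le hEP).map _
  obtain ⟨⟨h, hhC⟩, hh⟩ := Invol.exists_conj_subset_sylow
    (H := E₁.subgroupOf C) (hE₁p.comap_subtype) (P.subtype hPC)
  set E₂ := E.map (MulAut.conj (h * g)).toMonoidHom with hE₂
  have hE₂P : E₂ ≤ (P : Subgroup G) := by
    rintro _ ⟨e, he, rfl⟩
    have h1 : g * e * g⁻¹ ∈ E₁ := ⟨e, he, rfl⟩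
    have h2 := hh ⟨_, hE₁C h1⟩ h1
    show h * g * e * (h * g)⁻¹ ∈ (P : Subgroup G)
    rw [show h * g * e * (h * g)⁻¹ = h * (g * e * g⁻¹) * h⁻¹ by group]
    exact h2
  have hE₂card : Nat.card E₂ = p ^ 2 := by
    rw [hE₂, Subgroup.card_map_of_injective (f := (MulAut.conj (h * g)).toMonoidHom)
      (MulAut.conj (h * g)).injective, hEcard]
  have hPE₂ : (P : Subgroup G) ≤ Subgroup.normalizer (E₂ : Set G) := by
    rw [← Subgroup.normal_subgroupOf_iff_le_normalizer hE₂P]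
    refine Subgroup.normal_of_index_eq_minFac_card ?_
    have h1 := (E₂.subgroupOf (P : Subgroup G)).card_mul_index
    rw [Nat.card_congr (Subgroup.subgroupOfEquivOfLe hE₂P).toEquiv, hE₂card, hcard] at h1
    rw [hcard, hp.out.pow_minFac (by norm_num)]
    exact Nat.eq_of_mul_eq_mul_left (pow_pos hp.out.pos 2) (h1.trans (pow_succ p 2))
  obtain ⟨r, hr⟩ := hD E₂ E (P.isPGroup'.to_le hE₂P) (P.isPGroup'.to_le hEP)
    (hE₂card.trans hEcard.symm)
  set NE := Subgroup.normalizer (E : Set G) with hNE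
  have hPr : (P : Subgroup G).map (MulAut.conj r).toMonoidHom ≤ NE := by
    rintro _ ⟨a, ha, rfl⟩
    refine BS.mem_normalizer_of_conj_le fun e he => ?_
    obtain ⟨b, hb, rfl⟩ := hr.le he
    refine hr.ge ⟨a * b * a⁻¹, (Subgroup.mem_normalizer_iff.1 (hPE₂ ha) b).1 hb, ?_⟩
    simp [MulAut.conj_apply, mul_assoc]
  obtain ⟨⟨s, hsN⟩, hs⟩ := Invol.exists_conj_subset_sylow
    (H := ((P : Subgroup G).map (MulAut.conj r).toMonoidHom).subgroupOf NE)
    ((P.isPGroup'.map _).comap_subtype) (P.subtype hPE)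
  have hmP : ∀ a ∈ (P : Subgroup G), s * r * a * (s * r)⁻¹ ∈ (P : Subgroup G) := by
    intro a ha
    have h1 : r * a * r⁻¹ ∈ (P : Subgroup G).map (MulAut.conj r).toMonoidHom := ⟨a, ha, rfl⟩
    have h2 := hs ⟨_, hPr h1⟩ h1
    rw [show s * r * a * (s * r)⁻¹ = s * (r * a * r⁻¹) * s⁻¹ by group]
    exact h2
  set m := s * r with hm
  have hmN : m ∈ Subgroup.normalizer ((P : Subgroup G) : Set G) :=
    BS.mem_normalizer_of_conj_le hmP
  have hmc : m * c' * m⁻¹ ∈ Subgroup.zpowers c' := by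
    refine hcenter ⟨_, hmP _ c.2⟩ (Subgroup.mem_center_iff.2 fun a => Subtype.ext ?_)
    show (a : G) * (m * c' * m⁻¹) = m * c' * m⁻¹ * a
    have ha : m⁻¹ * (a : G) * m ∈ (P : Subgroup G) := by
      have := (Subgroup.mem_normalizer_iff.1 (inv_mem hmN) a).1 a.2
      rwa [inv_inv] at this
    calc (a : G) * (m * c' * m⁻¹) = m * ((m⁻¹ * a * m) * c') * m⁻¹ := by group
      _ = m * (c' * (m⁻¹ * a * m)) * m⁻¹ := by rw [hcP _ ha]
      _ = _ := by group
  set n := m * h * g with hn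
  have hnE : ∀ e ∈ E, n * e * n⁻¹ ∈ E := by
    intro e he
    have h1 : r * (h * g * e * (h * g)⁻¹) * r⁻¹ ∈ E := hr.ge ⟨_, ⟨e, he, rfl⟩, rfl⟩
    have h2 := (Subgroup.mem_normalizer_iff.1 hsN _).1 h1
    rw [show n * e * n⁻¹ = s * (r * (h * g * e * (h * g)⁻¹) * r⁻¹) * s⁻¹ by rw [hn, hm]; group]
    exact h2
  have hny : n * y' * n⁻¹ ∈ Subgroup.zpowers c' := by
    obtain ⟨i, hi⟩ := Subgroup.mem_zpowers_iff.1 hgy
    have h1 : Commute h c' := Subgroup.mem_centralizer_singleton_iff.1 hhC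
    rw [show n * y' * n⁻¹ = m * (h * (g * y' * g⁻¹) * h⁻¹) * m⁻¹ by rw [hn]; group, ← hi,
      (h1.zpow_right i).eq, mul_inv_cancel_right, ← conj_zpow]
    exact zpow_mem hmc i
  have hnyz : Subgroup.zpowers (n * y' * n⁻¹) = Subgroup.zpowers c' :=
    Subgroup.eq_of_le_of_card_ge (Subgroup.zpowers_le.2 hny) (by
      rw [card_zpowers_eq hcp hc1', card_zpowers_eq (by rw [conj_pow, hyp, mul_one, mul_inv_cancel])
        (fun h => hy1 (by simpa using h))])
  -- commutators with `x`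
  have hxe : ∀ e ∈ E, x' * e * x'⁻¹ * e⁻¹ ∈ Subgroup.zpowers c' ∧
      (x' * e * x'⁻¹ = e → e ∈ Subgroup.zpowers c') := by
    intro e he
    obtain ⟨i, j, rfl⟩ := hEform e he
    have h1 : x' * (c' ^ i * y' ^ j) * x'⁻¹ = c' ^ j * (c' ^ i * y' ^ j) := by
      rw [show x' * (c' ^ i * y' ^ j) * x'⁻¹ = (x' * c' * x'⁻¹) ^ i * (x' * y' * x'⁻¹) ^ j by
        rw [conj_zpow, conj_zpow]; group, hxy', ← hcx.eq, mul_inv_cancel_right, hcy.mul_zpow,
        ← mul_assoc, ← mul_assoc, ((Commute.refl c').zpow_zpow i j).eq]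
    rw [h1, mul_inv_cancel_right]
    refine ⟨zpow_mem (Subgroup.mem_zpowers c') j, fun h2 => ?_⟩
    have h3 : c' ^ j = 1 := by simpa using h2
    have h4 := orderOf_dvd_iff_zpow_eq_one.2 h3
    rw [orderOf_eq_prime hcp hc1', ← orderOf_eq_prime hyp hy1,
      orderOf_dvd_iff_zpow_eq_one] at h4
    rw [h4, mul_one]
    exact zpow_mem (Subgroup.mem_zpowers c') i
  -- the opposite transvection
  set τ := n⁻¹ * x' * n with hτ
  have hτy : τ * y' * τ⁻¹ = y' := by
    obtain ⟨i, hi⟩ := Subgroup.mem_zpowers_iff.1 hny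
    rw [show τ * y' * τ⁻¹ = n⁻¹ * (x' * (n * y' * n⁻¹) * x'⁻¹) * n by rw [hτ]; group, ← hi,
      (hcx.symm.zpow_right i).eq, mul_inv_cancel_right, hi]
    group
  set q := τ * c' * τ⁻¹ * c'⁻¹ with hq
  have hnc : n * c' * n⁻¹ ∈ E := hnE _ hcE
  have hnq : n * q * n⁻¹ = x' * (n * c' * n⁻¹) * x'⁻¹ * (n * c' * n⁻¹)⁻¹ := by
    rw [hq, hτ]; group
  have hqy : q ∈ Subgroup.zpowers y' := by
    have h1 : n * q * n⁻¹ ∈ Subgroup.zpowers (n * y' * n⁻¹) := by
      rw [hnyz, hnq]; exact (hxe _ hnc).1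
    obtain ⟨l, hl⟩ := Subgroup.mem_zpowers_iff.1 h1
    rw [conj_zpow] at hl
    exact Subgroup.mem_zpowers_iff.2 ⟨l, by simpa using hl⟩
  have hq1 : q ≠ 1 := by
    intro h1
    have h2 : x' * (n * c' * n⁻¹) * x'⁻¹ * (n * c' * n⁻¹)⁻¹ = 1 := by rw [← hnq, h1]; group
    have h3 := (hxe _ hnc).2 (mul_inv_eq_one.1 h2)
    rw [← hnyz] at h3
    obtain ⟨l, hl⟩ := Subgroup.mem_zpowers_iff.1 h3
    rw [conj_zpow] at hl
    exact hcy' (Subgroup.mem_zpowers_iff.2 ⟨l, by simpa using hl⟩)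
  have hqp : q ^ p = 1 := by
    obtain ⟨l, hl⟩ := Subgroup.mem_zpowers_iff.1 hqy
    rw [← hl, ← zpow_natCast, zpow_comm, zpow_natCast, hyp, one_zpow]
  have hqeq : Subgroup.zpowers q = Subgroup.zpowers y' :=
    Subgroup.eq_of_le_of_card_ge (Subgroup.zpowers_le.2 hqy)
      (by rw [card_zpowers_eq hqp hq1, card_zpowers_eq hyp hy1])
  obtain ⟨j, hj⟩ : ∃ j : ℕ, q ^ j = y'⁻¹ := by
    have h1 : y'⁻¹ ∈ Subgroup.zpowers q := hqeq ▸ inv_mem (Subgroup.mem_zpowers y')
    exact (Submonoid.mem_powers_iff _ _).1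
      ((isOfFinOrder_of_finite q).mem_powers_iff_mem_zpowers.2 h1)
  set v := τ ^ j with hv
  have hτq : Commute τ q := by
    obtain ⟨l, hl⟩ := Subgroup.mem_zpowers_iff.1 hqy
    have h1 : Commute τ y' := mul_inv_eq_iff_eq_mul.1 hτy
    rw [← hl]
    exact h1.zpow_right l
  have hvc : ∀ i : ℕ, τ ^ i * c' * (τ ^ i)⁻¹ = q ^ i * c' := by
    intro i
    induction i with
    | zero => simp
    | succ i ih =>
      calc τ ^ (i + 1) * c' * (τ ^ (i + 1))⁻¹ = τ * (τ ^ i * c' * (τ ^ i)⁻¹) * τ⁻¹ := by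
            rw [pow_succ' τ i, mul_inv_rev]; group
        _ = τ * q ^ i * τ⁻¹ * (τ * c' * τ⁻¹) := by rw [ih]; group
        _ = q ^ i * (q * c') := by
          rw [(hτq.pow_right i).eq, mul_inv_cancel_right,
            show q * c' = τ * c' * τ⁻¹ by rw [hq]; group]
        _ = q ^ (i + 1) * c' := by rw [pow_succ]; exact (mul_assoc _ _ _).symm
  have hvc' : v * c' * v⁻¹ = y'⁻¹ * c' := by rw [hv, hvc, hj]
  have hvy : Commute v y' := Commute.pow_left (mul_inv_eq_iff_eq_mul.1 hτy) j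
  -- an element of order four on `E`
  set W := x' * v * x' with hW
  have hWc : W * c' * W⁻¹ = y'⁻¹ := by
    calc W * c' * W⁻¹ = x' * (v * (x' * c' * x'⁻¹) * v⁻¹) * x'⁻¹ := by rw [hW]; group
      _ = x' * (y'⁻¹ * c') * x'⁻¹ := by rw [← hcx.eq, mul_inv_cancel_right, hvc']
      _ = (x' * y' * x'⁻¹)⁻¹ * (x' * c' * x'⁻¹) := by group
      _ = y'⁻¹ := by
        rw [hxy', ← hcx.eq, mul_inv_cancel_right, mul_inv_rev, inv_mul_cancel_right]
  have hWy : W * y' * W⁻¹ = c' := by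
    calc W * y' * W⁻¹ = x' * (v * (x' * y' * x'⁻¹) * v⁻¹) * x'⁻¹ := by rw [hW]; group
      _ = x' * ((v * c' * v⁻¹) * (v * y' * v⁻¹)) * x'⁻¹ := by rw [hxy']; group
      _ = x' * c' * x'⁻¹ := by
        rw [hvc', hvy.eq, mul_inv_cancel_right, mul_assoc y'⁻¹, hcy.eq, inv_mul_cancel_left]
      _ = c' := by rw [← hcx.eq, mul_inv_cancel_right]
  have hW2c : W * (W * c' * W⁻¹) * W⁻¹ = c'⁻¹ := by
    rw [hWc, show W * y'⁻¹ * W⁻¹ = (W * y' * W⁻¹)⁻¹ by group, hWy]
  have hW2y : W * (W * y' * W⁻¹) * W⁻¹ = y'⁻¹ := by rw [hWy, hWc]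
  have hW4 : Commute (W ^ 4) c' ∧ Commute (W ^ 4) y' := by
    have key : ∀ a : G, W * (W * a * W⁻¹) * W⁻¹ = a⁻¹ → Commute (W ^ 4) a := fun a ha => by
      refine mul_inv_eq_iff_eq_mul.1 ?_
      have h2 : W * (W * a⁻¹ * W⁻¹) * W⁻¹ = a := by
        have h3 := congrArg (fun b => b⁻¹) ha
        simpa [mul_assoc] using h3
      calc W ^ 4 * a * (W ^ 4)⁻¹
          = W * (W * (W * (W * a * W⁻¹) * W⁻¹) * W⁻¹) * W⁻¹ := by
            rw [show W ^ 4 = W * W * W * W by simp [pow_succ, mul_assoc]]; group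
        _ = a := by rw [ha, h2]
    exact ⟨key _ hW2c, key _ hW2y⟩
  obtain ⟨a, mo, hmo, hord⟩ : ∃ a mo : ℕ, Odd mo ∧ orderOf W = 2 ^ a * mo := by
    obtain ⟨a, mo, h1, h2⟩ := Nat.exists_eq_two_pow_mul_odd (orderOf_pos W).ne'
    exact ⟨a, mo, h1, h2⟩
  set w := W ^ (mo * mo) with hw
  have hword : ∃ k : ℕ, orderOf w = 2 ^ k := by
    have h1 : w ^ 2 ^ a = 1 := by
      rw [hw, ← pow_mul, show mo * mo * 2 ^ a = 2 ^ a * mo * mo by ring, pow_mul, ← hord,
        pow_orderOf_eq_one, one_pow]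
    obtain ⟨k, -, hk⟩ := (Nat.dvd_prime_pow Nat.prime_two).1 (orderOf_dvd_of_pow_eq_one h1)
    exact ⟨k, hk⟩
  obtain ⟨t, ht⟩ : ∃ t, mo * mo = 4 * t + 1 := by
    obtain ⟨l, rfl⟩ := hmo
    exact ⟨l * l + l, by ring⟩
  have hwW : ∀ b d : G, W * b * W⁻¹ = d → Commute (W ^ 4) d → w * b * w⁻¹ = d := by
    intro b d hbd hd
    calc w * b * w⁻¹ = (W ^ 4) ^ t * (W * b * W⁻¹) * ((W ^ 4) ^ t)⁻¹ := by
          rw [hw, ht, pow_succ, pow_mul]; group
      _ = d := by rw [hbd, (hd.pow_left t).eq, mul_inv_cancel_right]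
  have hwc : w * c' * w⁻¹ = y'⁻¹ := hwW _ _ hWc hW4.2.inv_right
  have hwy : w * y' * w⁻¹ = c' := hwW _ _ hWy hW4.1
  have hinv : w ^ 2 * c' * (w ^ 2)⁻¹ = c'⁻¹ := by
    calc w ^ 2 * c' * (w ^ 2)⁻¹ = w * (w * c' * w⁻¹) * w⁻¹ := by rw [pow_two]; group
      _ = (w * y' * w⁻¹)⁻¹ := by rw [hwc]; group
      _ = c'⁻¹ := by rw [hwy]
  obtain ⟨N, hNn, hNodd, hxN⟩ :=
    exists_odd_normal_mem hD2 hD hp2 hword hcp hc1' hxp hx1 hinv
  have hτN : τ ∈ N := by
    have := hNn.conj_mem x' hxN n⁻¹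
    rwa [inv_inv, ← hτ] at this
  have hwN : w ∈ N := pow_mem (mul_mem (mul_mem hxN (pow_mem hτN j)) hxN) _
  obtain ⟨k, hk⟩ := hword
  have hk1 : orderOf w = 1 := by
    refine Nat.eq_one_of_dvd_coprimes (Nat.Coprime.pow_left k (Nat.coprime_two_left.2 hNodd))
      (dvd_of_eq hk) ?_
    rw [← Subgroup.orderOf_mk w hwN]
    exact orderOf_dvd_natCard _
  rw [orderOf_eq_one_iff] at hk1
  rw [hk1, one_mul, inv_one, mul_one] at hwy
  exact hyc (hwy ▸ Subgroup.mem_zpowers c')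

end Cfsg.Agent.Grp.EqualOrderP
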