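import Cfsg.Agent.Lib.Grp.AmbivalentSolvable
import Cfsg.Agent.Lib.Invol.RankOne
import Cfsg.Agent.Lib.Invol.BSLocal

/-!
# p-groups in which subgroups of equal order are isomorphic

Such a group is cyclic, elementary abelian, quaternion of order 8, or of order `p ^ 3` and
exponent `p` for an odd prime `p`.
-/

open scoped Pointwise

set_option autoImplicit false

namespace Cfsg.Agent.Grp.EqualOrderP

universe u

variable {R : Type u} [Group R] [Finite R] {p : ℕ} [hp : Fact p.Prime]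

/-- A normalizing element of order `p` outside `H` multiplies the order by `p`. -/
theorem card_sup_zpowers {H : Subgroup R} {x : R} (hx : x ^ p = 1) (hxH : x ∉ H)
    (hnorm : ∀ h ∈ H, x * h * x⁻¹ ∈ H) :
    Nat.card ↥(H ⊔ Subgroup.zpowers x) = Nat.card H * p := by
  have hle : Subgroup.zpowers x ≤ Subgroup.normalizer (H : Set R) :=
    Subgroup.zpowers_le.2 (BS.mem_normalizer_of_conj_le hnorm)
  have hord : orderOf x = p := orderOf_eq_prime hx fun h => hxH (h ▸ one_mem H)
  have hcard : Nat.card (Subgroup.zpowers x) = p := by rw [Nat.card_zpowers, hord]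
  have hinf : H ⊓ Subgroup.zpowers x = ⊥ := by
    rcases hp.out.eq_one_or_self_of_dvd _ (hcard ▸ Subgroup.card_dvd_of_le
      (inf_le_right : H ⊓ Subgroup.zpowers x ≤ Subgroup.zpowers x)) with h | h
    · exact Subgroup.card_eq_one.1 h
    · have h' := Subgroup.eq_of_le_of_card_ge (inf_le_right : H ⊓ Subgroup.zpowers x ≤ _)
        (by rw [h, hcard])
      exact absurd (h'.ge (Subgroup.mem_zpowers x)).1 hxH
  let f : H × Subgroup.zpowers x → ↥(H ⊔ Subgroup.zpowers x) := fun q =>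
    ⟨(q.1 : R) * q.2, mul_mem (Subgroup.mem_sup_left q.1.2) (Subgroup.mem_sup_right q.2.2)⟩
  have hf : Function.Bijective f := by
    refine ⟨fun q r h => ?_, fun g => ?_⟩
    · exact Subgroup.mul_injective_of_disjoint (disjoint_iff.2 hinf) (congrArg Subtype.val h)
    · obtain ⟨g, hg⟩ := g
      have hg' : g ∈ (H : Set R) * (Subgroup.zpowers x : Set R) := by
        rw [← Subgroup.coe_mul_of_right_le_normalizer_left H _ hle]; exact hg
      obtain ⟨a, ha, b, hb, rfl⟩ := Set.mem_mul.1 hg'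
      exact ⟨(⟨a, ha⟩, ⟨b, hb⟩), rfl⟩
  rw [← Nat.card_congr (Equiv.ofBijective f hf), Nat.card_prod, hcard]

theorem card_zpowers_eq {x : R} (hx : x ^ p = 1) (hx1 : x ≠ 1) :
    Nat.card (Subgroup.zpowers x) = p := by
  rw [Nat.card_zpowers, orderOf_eq_prime hx hx1]

/-- Exponents pass through an isomorphism. -/
theorem pow_eq_one_of_iso {H K : Subgroup R} (e : Nonempty (H ≃* K)) {m : ℕ}
    (h : ∀ a ∈ H, a ^ m = 1) {b : R} (hb : b ∈ K) : b ^ m = 1 := by
  obtain ⟨e⟩ := e
  have h1 : (e.symm ⟨b, hb⟩) ^ m = 1 := Subtype.ext (h _ (e.symm ⟨b, hb⟩).2)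
  have h2 := congrArg e h1
  rw [map_pow, MulEquiv.apply_symm_apply, map_one] at h2
  exact congrArg Subtype.val h2

/-- In a quaternion group with isomorphic subgroups of order 8 the order is 8. -/
theorem quaternion_eight (hR : IsPGroup 2 R)
    (hiso : ∀ H K : Subgroup R, Nat.card H = Nat.card K → Nonempty (H ≃* K))
    {n : ℕ} (e : R ≃* QuaternionGroup (2 ^ (n + 1))) : n = 0 := by
  haveI : Fact (Nat.Prime 2) := ⟨Nat.prime_two⟩
  by_contra hn
  obtain ⟨k, rfl⟩ := Nat.exists_eq_succ_of_ne_zero hn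
  haveI : NeZero (2 ^ (k + 1 + 1)) := ⟨by positivity⟩
  set a := e.symm (QuaternionGroup.a 1) with ha
  set x := e.symm (QuaternionGroup.xa 0) with hx
  have hordx : orderOf x = 4 := by rw [hx, MulEquiv.orderOf_eq, QuaternionGroup.orderOf_xa]
  have horda : orderOf a = 2 * 2 ^ (k + 1 + 1) := by
    rw [ha, MulEquiv.orderOf_eq, QuaternionGroup.orderOf_a_one]
  -- a cyclic subgroup of order eight
  set b := a ^ 2 ^ k with hb
  have hordb : orderOf b = 8 := by
    rw [hb, orderOf_pow_of_dvd (by positivity) ⟨8, by rw [horda]; ring⟩, horda,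
      show 2 * 2 ^ (k + 1 + 1) = 2 ^ k * 8 by ring, Nat.mul_div_cancel_left _ (by positivity)]
  -- a subgroup of order eight over `x`
  have h8 : 2 ^ 3 ∣ Nat.card R := by
    rw [show (2 : ℕ) ^ 3 = orderOf b from hordb.symm]; exact orderOf_dvd_natCard b
  obtain ⟨K, hK, hxK⟩ := Sylow.exists_subgroup_card_pow_succ (p := 2) (n := 2) h8
    (H := Subgroup.zpowers x) (by rw [Nat.card_zpowers, hordx]; rfl)
  obtain ⟨f⟩ := hiso (Subgroup.zpowers b) K (by rw [Nat.card_zpowers, hordb, hK]; rfl)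
  set y : R := (f ⟨b, Subgroup.mem_zpowers b⟩ : R) with hy
  have hordy : orderOf y = 8 := by
    rw [hy, Subgroup.orderOf_coe, MulEquiv.orderOf_eq, Subgroup.orderOf_mk, hordb]
  have hxy : x ∈ Subgroup.zpowers y := by
    obtain ⟨⟨c, hc⟩, hcx⟩ := f.surjective ⟨x, hxK (Subgroup.mem_zpowers x)⟩
    obtain ⟨i, rfl⟩ := Subgroup.mem_zpowers_iff.1 hc
    refine Subgroup.mem_zpowers_iff.2 ⟨i, ?_⟩
    have := congrArg Subtype.val hcx
    rw [show (⟨b ^ i, hc⟩ : Subgroup.zpowers b) = ⟨b, Subgroup.mem_zpowers b⟩ ^ i from rfl,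
      map_zpow, SubgroupClass.coe_zpow] at this
    exact this
  obtain ⟨j, hj⟩ := Subgroup.mem_zpowers_iff.1 hxy
  rcases hey : e y with i | i
  · have hi : QuaternionGroup.a i ∈ Subgroup.zpowers (QuaternionGroup.a (1 : ZMod (2 * 2 ^ (k + 1 + 1)))) :=
      Subgroup.mem_zpowers_iff.2 ⟨(i.val : ℤ), by
        rw [zpow_natCast, QuaternionGroup.a_one_pow, ZMod.natCast_zmod_val]⟩
    have h0 : QuaternionGroup.xa (0 : ZMod (2 * 2 ^ (k + 1 + 1))) ∈
        Subgroup.zpowers (QuaternionGroup.a 1) := by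
      have h1 : e x = (e y) ^ j := by rw [← map_zpow, hj]
      rw [hx, MulEquiv.apply_symm_apply, hey] at h1
      rw [h1]
      exact zpow_mem hi j
    obtain ⟨m, hm⟩ := (Subgroup.mem_zpowers_iff.1 h0)
    have hfin : ∃ l : ℕ, QuaternionGroup.a (1 : ZMod (2 * 2 ^ (k + 1 + 1))) ^ l = QuaternionGroup.xa 0 := by
      have := (isOfFinOrder_of_finite (QuaternionGroup.a (1 : ZMod (2 * 2 ^ (k + 1 + 1))))).mem_powers_iff_mem_zpowers.2
        (Subgroup.mem_zpowers_iff.2 ⟨m, hm⟩)
      exact Submonoid.mem_powers_iff _ _ |>.1 this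
    obtain ⟨l, hl⟩ := hfin
    rw [QuaternionGroup.a_one_pow] at hl
    exact (nomatch hl)
  · have h1 : orderOf (e y) = 4 := by rw [hey, QuaternionGroup.orderOf_xa]
    rw [MulEquiv.orderOf_eq, hordy] at h1
    exact absurd h1 (by norm_num)

/-- The shape of a p-group in which subgroups of equal order are isomorphic. -/
theorem shape (hR : IsPGroup p R)
    (hiso : ∀ H K : Subgroup R, Nat.card H = Nat.card K → Nonempty (H ≃* K)) :
    IsCyclic R ∨ ((∀ a b : R, a * b = b * a) ∧ ∀ a : R, a ^ p = 1) ∨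
      (p = 2 ∧ Nonempty (R ≃* QuaternionGroup 2)) ∨
      (p ≠ 2 ∧ (∀ a : R, a ^ p = 1) ∧ Nat.card R = p ^ 3 ∧
        Nat.card (Subgroup.center R) = p ∧ ∃ x y c : R, x * y * x⁻¹ = c * y ∧ c ≠ 1 ∧
          c ∈ Subgroup.center R ∧ y ∉ Subgroup.center R ∧
          ∀ g : R, g * y * g⁻¹ * y⁻¹ ∈ Subgroup.center R) := by
  classical
  rcases subsingleton_or_nontrivial R with hs | hnt
  · exact Or.inl isCyclic_of_subsingleton
  haveI := hR.center_nontrivial
  obtain ⟨m, hm⟩ := (hR.to_subgroup (Subgroup.center R)).exists_card_eq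
  have hm0 : m ≠ 0 := fun h => by
    have := Finite.one_lt_card (α := Subgroup.center R)
    rw [hm, h, pow_zero] at this
    omega
  obtain ⟨⟨z, hzc⟩, hz⟩ := exists_prime_orderOf_dvd_card' (G := Subgroup.center R) p
    (hm ▸ dvd_pow_self p hm0)
  rw [Subgroup.orderOf_mk] at hz
  have hzp : z ^ p = 1 := hz ▸ pow_orderOf_eq_one z
  by_cases hex : ∃ y : R, y ^ p = 1 ∧ y ∉ Subgroup.zpowers z
  swap
  · push Not at hex
    by_cases hp2 : p = 2
    · subst hp2
      have huniq : ∀ a b : R, orderOf a = 2 → orderOf b = 2 → a = b := by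
        have key : ∀ a : R, orderOf a = 2 → a = z := by
          intro a ha
          obtain ⟨i, hi⟩ := Subgroup.mem_zpowers_iff.1 (hex a (ha ▸ pow_orderOf_eq_one a))
          rw [← zpow_mod_orderOf, hz] at hi
          rcases Int.emod_two_eq_zero_or_one i with h | h <;> rw [Nat.cast_ofNat, h] at hi
          · rw [zpow_zero] at hi
            rw [← hi, orderOf_one] at ha
            omega
          · rw [zpow_one] at hi; exact hi.symm
        exact fun a b ha hb => (key a ha).trans (key b hb).symm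
      rcases Ambivalent.cyclic_or_quaternion hR huniq with h | ⟨n, ⟨e⟩⟩
      · exact Or.inl h
      · have hn := quaternion_eight hR hiso e
        subst hn
        exact Or.inr (Or.inr (Or.inl ⟨rfl, ⟨e⟩⟩))
    · exact Or.inl (Invol.isCyclic_of_pow_eq_one_mem hR hp2 hzc hzp hex)
  obtain ⟨y₀, hy₀, hy₀z⟩ := hex
  -- an elementary subgroup of order `p ^ 2`
  set E₀ := Subgroup.zpowers z ⊔ Subgroup.zpowers y₀ with hE₀
  have hzcomm : ∀ g : R, Commute g z := fun g => Subgroup.mem_center_iff.1 hzc g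
  have hzfix : ∀ h ∈ Subgroup.zpowers z, ∀ g : R, g * h * g⁻¹ = h := fun h hh g => by
    obtain ⟨i, rfl⟩ := Subgroup.mem_zpowers_iff.1 hh
    rw [((hzcomm g).zpow_right i).eq, mul_inv_cancel_right]
  have hz1 : z ≠ 1 := fun h => by
    rw [h, orderOf_one] at hz; exact hp.out.one_lt.ne hz
  have hE₀card : Nat.card E₀ = p ^ 2 := by
    rw [hE₀, card_sup_zpowers hy₀ hy₀z (fun h hh => by rw [hzfix h hh y₀]; exact hh),
      card_zpowers_eq hzp hz1, pow_two]
  have hE₀exp : ∀ a ∈ E₀, a ^ p = 1 := by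
    haveI : (Subgroup.zpowers z).Normal := ⟨fun h hh g => by rw [hzfix h hh g]; exact hh⟩
    intro a ha
    obtain ⟨u, hu, v, hv, rfl⟩ := Subgroup.mem_sup_of_normal_left.1 ha
    obtain ⟨i, rfl⟩ := Subgroup.mem_zpowers_iff.1 hu
    obtain ⟨j, rfl⟩ := Subgroup.mem_zpowers_iff.1 hv
    rw [(((hzcomm y₀).symm).zpow_zpow i j).mul_pow, ← zpow_natCast (z ^ i), ← zpow_natCast (y₀ ^ j),
      zpow_comm z, zpow_comm y₀, zpow_natCast, zpow_natCast, hzp, hy₀, one_zpow, one_zpow, one_mul]
  have hexp : ∀ a : R, a ^ p = 1 := by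
    intro a
    obtain ⟨k, hk⟩ := IsPGroup.iff_orderOf.1 hR a
    by_contra ha
    have hk2 : 2 ≤ k := by
      by_contra h
      refine ha (orderOf_dvd_iff_pow_eq_one.1 ?_)
      rw [hk]
      exact (pow_dvd_pow p (by omega : k ≤ 1)).trans (by rw [pow_one])
    set b := a ^ p ^ (k - 2) with hb
    have hob : orderOf b = p ^ 2 := by
      rw [hb, orderOf_pow_of_dvd (pow_ne_zero _ hp.out.ne_zero)
        (hk ▸ pow_dvd_pow p (by omega)), hk, Nat.pow_div (by omega) hp.out.pos]
      congr 1; omega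
    have hb' := pow_eq_one_of_iso (hiso E₀ (Subgroup.zpowers b)
      (by rw [hE₀card, Nat.card_zpowers, hob])) hE₀exp (Subgroup.mem_zpowers b)
    have h1 := Nat.le_of_dvd hp.out.pos (hob ▸ orderOf_dvd_of_pow_eq_one hb')
    have h2 := lt_self_pow₀ hp.out.one_lt (by norm_num : 1 < 2)
    omega
  by_cases hcomm : ∀ a b : R, a * b = b * a
  · exact Or.inr (Or.inl ⟨hcomm, hexp⟩)
  refine Or.inr (Or.inr (Or.inr ?_))
  have hp2 : p ≠ 2 := by
    rintro rfl
    refine hcomm fun a b => ?_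
    have hinv : ∀ w : R, w⁻¹ = w := fun w => inv_eq_of_mul_eq_one_right (by rw [← pow_two]; exact hexp w)
    calc a * b = (a * b)⁻¹ := (hinv _).symm
      _ = b * a := by rw [mul_inv_rev, hinv, hinv]
  -- an element of the second centre
  set Z := Subgroup.center R with hZ
  have hZtop : Z ≠ ⊤ := fun h => hcomm fun a b =>
    (Subgroup.mem_center_iff.1 (h ▸ Subgroup.mem_top a : a ∈ Z) b).symm
  haveI : Nontrivial (R ⧸ Z) := by
    obtain ⟨w, -, hw⟩ := SetLike.exists_of_lt (lt_top_iff_ne_top.2 hZtop)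
    exact ⟨(w : R ⧸ Z), 1, fun h => hw ((QuotientGroup.eq_one_iff w).1 h)⟩
  haveI := (hR.to_quotient Z).center_nontrivial
  obtain ⟨⟨q, hq⟩, hq1⟩ := exists_ne (1 : Subgroup.center (R ⧸ Z))
  obtain ⟨y, rfl⟩ := QuotientGroup.mk'_surjective Z q
  have hyZ : y ∉ Z := fun h => hq1 (Subtype.ext ((QuotientGroup.eq_one_iff y).2 h))
  have hy2 : ∀ g : R, g * y * g⁻¹ * y⁻¹ ∈ Z := fun g => by
    refine (QuotientGroup.eq_one_iff _).1 ?_
    have := Subgroup.mem_center_iff.1 hq (g : R ⧸ Z)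
    simp only [QuotientGroup.mk'_apply] at this
    simp only [QuotientGroup.mk_mul, QuotientGroup.mk_inv]
    rw [this]; group
  obtain ⟨x, hx⟩ : ∃ x : R, x * y ≠ y * x := by
    by_contra h
    push Not at h
    exact hyZ (Subgroup.mem_center_iff.2 h)
  set c := x * y * x⁻¹ * y⁻¹ with hc
  have hcZ : c ∈ Z := hy2 x
  have hc1 : c ≠ 1 := fun h => hx (by
    rw [hc, mul_inv_eq_one, mul_inv_eq_iff_eq_mul] at h; exact h)
  have hxyc : x * y * x⁻¹ = c * y := by rw [hc, inv_mul_cancel_right]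
  have hcfix : ∀ h ∈ Subgroup.zpowers c, ∀ g : R, g * h * g⁻¹ = h := fun h hh g => by
    obtain ⟨i, rfl⟩ := Subgroup.mem_zpowers_iff.1 hh
    rw [Subgroup.mem_center_iff.1 (zpow_mem hcZ i) g, mul_inv_cancel_right]
  have hyc : y ∉ Subgroup.zpowers c := fun h => hyZ (Subgroup.zpowers_le.2 hcZ h)
  set E := Subgroup.zpowers c ⊔ Subgroup.zpowers y with hE
  have hEcard : Nat.card E = p ^ 2 := by
    rw [hE, card_sup_zpowers (hexp y) hyc (fun h hh => by rw [hcfix h hh y]; exact hh),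
      card_zpowers_eq (hexp c) hc1, pow_two]
  have hEcomm : ∀ g : R, g * y = y * g → ∀ e ∈ E, g * e = e * g := by
    intro g hg e he
    have hle : E ≤ Subgroup.centralizer ({g} : Set R) :=
      sup_le (Subgroup.zpowers_le.2 (Subgroup.mem_centralizer_singleton_iff.2
          (Subgroup.mem_center_iff.1 hcZ g).symm))
        (Subgroup.zpowers_le.2 (Subgroup.mem_centralizer_singleton_iff.2 hg.symm))
    exact (Subgroup.mem_centralizer_singleton_iff.1 (hle he)).symm
  -- the nonabelian subgroup of order `p ^ 3`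
  have hxE : x ∉ E := fun h => hx (hEcomm y rfl x h).symm
  have hxnorm : ∀ e ∈ E, x * e * x⁻¹ ∈ E := by
    intro e he
    have hle : E ≤ E.comap (MulAut.conj x).toMonoidHom :=
      sup_le (Subgroup.zpowers_le.2 (by
          show x * c * x⁻¹ ∈ E
          rw [hcfix c (Subgroup.mem_zpowers c) x]
          exact Subgroup.mem_sup_left (Subgroup.mem_zpowers c)))
        (Subgroup.zpowers_le.2 (by
          show x * y * x⁻¹ ∈ E
          rw [hxyc]
          exact mul_mem (Subgroup.mem_sup_left (Subgroup.mem_zpowers c))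
            (Subgroup.mem_sup_right (Subgroup.mem_zpowers y))))
    exact hle he
  set N := E ⊔ Subgroup.zpowers x with hN
  have hNcard : Nat.card N = p ^ 3 := by
    rw [hN, card_sup_zpowers (hexp x) hxE hxnorm, hEcard]; ring
  have hnoab : ∀ A : Subgroup R, Nat.card A = p ^ 3 → ¬ ∀ a ∈ A, ∀ b ∈ A, a * b = b * a := by
    intro A hA hab
    obtain ⟨e⟩ := hiso A N (hA.trans hNcard.symm)
    refine hx ?_
    have hxN : x ∈ N := Subgroup.mem_sup_right (Subgroup.mem_zpowers x)
    have hyN : y ∈ N := Subgroup.mem_sup_left (Subgroup.mem_sup_right (Subgroup.mem_zpowers y))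
    have h1 : e.symm ⟨x, hxN⟩ * e.symm ⟨y, hyN⟩ = e.symm ⟨y, hyN⟩ * e.symm ⟨x, hxN⟩ :=
      Subtype.ext (hab _ (e.symm _).2 _ (e.symm _).2)
    rw [← map_mul, ← map_mul] at h1
    exact congrArg Subtype.val (e.symm.injective h1)
  -- the centre has order `p`
  have hZcard : Nat.card Z = p := by
    by_contra hne
    obtain ⟨d, hdZ, hdc⟩ : ∃ d ∈ Z, d ∉ Subgroup.zpowers c := by
      by_contra h
      push Not at h
      exact hne ((congrArg (fun K : Subgroup R => Nat.card K)
        (le_antisymm h (Subgroup.zpowers_le.2 hcZ))).trans (card_zpowers_eq (hexp c) hc1))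
    set F := Subgroup.zpowers c ⊔ Subgroup.zpowers d with hF
    have hFZ : F ≤ Z := sup_le (Subgroup.zpowers_le.2 hcZ) (Subgroup.zpowers_le.2 hdZ)
    have hFfix : ∀ h ∈ F, ∀ g : R, g * h = h * g := fun h hh g => Subgroup.mem_center_iff.1 (hFZ hh) g
    have hFcard : Nat.card F = p ^ 2 := by
      rw [hF, card_sup_zpowers (hexp d) hdc (fun h hh => by rw [hcfix h hh d]; exact hh),
        card_zpowers_eq (hexp c) hc1, pow_two]
    have hyF : y ∉ F := fun h => hyZ (hFZ h)
    refine hnoab (F ⊔ Subgroup.zpowers y) ?_ ?_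
    · rw [card_sup_zpowers (hexp y) hyF (fun h hh => by
        rw [hFfix h hh y, mul_inv_cancel_right]; exact hh), hFcard]
      ring
    · intro a ha b hb
      haveI : F.Normal := ⟨fun h hh g => by rw [hFfix h hh g, mul_inv_cancel_right]; exact hh⟩
      obtain ⟨u, hu, v, hv, rfl⟩ := Subgroup.mem_sup_of_normal_left.1 ha
      obtain ⟨u', hu', v', hv', rfl⟩ := Subgroup.mem_sup_of_normal_left.1 hb
      obtain ⟨i, rfl⟩ := Subgroup.mem_zpowers_iff.1 hv
      obtain ⟨j, rfl⟩ := Subgroup.mem_zpowers_iff.1 hv'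
      have e1 := hFfix u hu
      have e2 := hFfix u' hu'
      rw [mul_assoc, ← mul_assoc (y ^ i), e2, mul_assoc u', ← zpow_add, mul_assoc u',
        ← mul_assoc (y ^ j), e1, mul_assoc u, ← zpow_add, ← mul_assoc, ← mul_assoc, e2, add_comm]
  refine ⟨hp2, hexp, ?_, hZcard, x, y, c, hxyc, hc1, hcZ, hyZ, hy2⟩
  -- the group has order `p ^ 3`
  obtain ⟨n, hn⟩ := hR.exists_card_eq
  have hn3 : 3 ≤ n := (Nat.pow_dvd_pow_iff_le_right hp.out.one_lt).1
    (hn ▸ hNcard ▸ Subgroup.card_subgroup_dvd_card N)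
  rw [hn]
  by_contra hne
  have hn4 : 4 ≤ n := by
    by_contra h
    exact hne (by rw [show n = 3 by omega])
  -- the centralizer of `y` has index at most `p`
  let φ : R →* Z :=
    { toFun := fun g => ⟨g * y * g⁻¹ * y⁻¹, hy2 g⟩
      map_one' := Subtype.ext (by simp)
      map_mul' := fun g h => Subtype.ext (by
        have hk := Subgroup.mem_center_iff.1 (hy2 h) g
        have hk2 := Subgroup.mem_center_iff.1 (hy2 h) (g * y * g⁻¹ * y⁻¹)
        show g * h * y * (g * h)⁻¹ * y⁻¹ = g * y * g⁻¹ * y⁻¹ * (h * y * h⁻¹ * y⁻¹)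
        rw [hk2]
        calc g * h * y * (g * h)⁻¹ * y⁻¹
            = g * (h * y * h⁻¹ * y⁻¹) * (y * g⁻¹ * y⁻¹) := by group
          _ = h * y * h⁻¹ * y⁻¹ * g * (y * g⁻¹ * y⁻¹) := by rw [hk]
          _ = h * y * h⁻¹ * y⁻¹ * (g * y * g⁻¹ * y⁻¹) := by group) }
  have hker : p ^ 3 ≤ Nat.card φ.ker := by
    have h1 := φ.ker.card_mul_index
    rw [Subgroup.index_ker, hn] at h1
    have h2 : Nat.card φ.range ≤ p := hZcard ▸ Nat.card_le_card_of_injective _ φ.range.subtype_injective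
    have h3 : p ^ 3 * p ≤ Nat.card φ.ker * p := by
      calc p ^ 3 * p = p ^ 4 := by ring
        _ ≤ p ^ n := Nat.pow_le_pow_right hp.out.pos hn4
        _ = Nat.card φ.ker * Nat.card φ.range := h1.symm
        _ ≤ Nat.card φ.ker * p := Nat.mul_le_mul_left _ h2
    exact Nat.le_of_mul_le_mul_right h3 hp.out.pos
  have hkerfix : ∀ g ∈ φ.ker, g * y = y * g := fun g hg => by
    have := congrArg Subtype.val (MonoidHom.mem_ker.1 hg)
    change g * y * g⁻¹ * y⁻¹ = 1 at this
    rwa [mul_inv_eq_one, mul_inv_eq_iff_eq_mul] at this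
  obtain ⟨u, hu, huE⟩ : ∃ u ∈ φ.ker, u ∉ E := by
    by_contra h
    push Not at h
    have h1 := Nat.le_of_dvd Nat.card_pos (Subgroup.card_dvd_of_le (show φ.ker ≤ E from h))
    rw [hEcard] at h1
    have : p ^ 2 < p ^ 3 := Nat.pow_lt_pow_right hp.out.one_lt (by norm_num)
    omega
  have huy := hkerfix u hu
  refine hnoab (E ⊔ Subgroup.zpowers u) ?_ ?_
  · rw [card_sup_zpowers (hexp u) huE (fun h hh => by
      rw [hEcomm u huy h hh, mul_inv_cancel_right]; exact hh), hEcard]
    ring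
  · have hEE : ∀ a ∈ E, ∀ b ∈ E, a * b = b * a := fun a ha b hb =>
      hEcomm a ((hEcomm y rfl a ha).symm) b hb
    intro a ha b hb
    have hle : E ⊔ Subgroup.zpowers u ≤ Subgroup.centralizer ((E ⊔ Subgroup.zpowers u : Subgroup R) : Set R) := by
      refine sup_le (fun e he => ?_) (Subgroup.zpowers_le.2 ?_)
      · refine Subgroup.mem_centralizer_iff.2 fun w hw => ?_
        have hle' : E ⊔ Subgroup.zpowers u ≤ Subgroup.centralizer ({e} : Set R) :=
          sup_le (fun e' he' => Subgroup.mem_centralizer_singleton_iff.2 (hEE e' he' e he))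
            (Subgroup.zpowers_le.2 (Subgroup.mem_centralizer_singleton_iff.2 (hEcomm u huy e he)))
        exact Subgroup.mem_centralizer_singleton_iff.1 (hle' hw)
      · refine Subgroup.mem_centralizer_iff.2 fun w hw => ?_
        have hle' : E ⊔ Subgroup.zpowers u ≤ Subgroup.centralizer ({u} : Set R) :=
          sup_le (fun e' he' => Subgroup.mem_centralizer_singleton_iff.2 (hEcomm u huy e' he').symm)
            (Subgroup.zpowers_le.2 (Subgroup.mem_centralizer_singleton_iff.2 rfl))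
        exact Subgroup.mem_centralizer_singleton_iff.1 (hle' hw)
    exact (Subgroup.mem_centralizer_iff.1 (hle hb) a ha)

end Cfsg.Agent.Grp.EqualOrderP
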